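import Mathlib
import Cfsg.Agent.Lib.Helper5.F11.Om11Fr
import Cfsg.Agent.Lib.Helper5.F7.H17.FrCMain

/-!
helper5, S5813 (`Ω₇(p)`, p an odd prime): the frame stabiliser is maximal.  The CORE in dimension 7
(`F7.H17.FrCMain.coreProp`) is the `FrC` tower of helper17's market re-run with 7 coordinates (the only
changes against the 11-coordinate copy: the spare transposition in A4 is taken inside the support, and
the counts `11 - 4`, `11 - 1` become `7 - 4`, `7 - 1`).
-/

set_option autoImplicit false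
set_option linter.unusedSectionVars false
set_option linter.unusedVariables false

namespace Cfsg.Agent.Lib.Helper5.F7.Fr

variable {F : Type*} [Field F] [Fintype F]

/-- the CORE for any index type with seven elements -/
theorem coreProp7 {κ : Type} [Fintype κ] [DecidableEq κ] (hprime : (Fintype.card F).Prime)
    (hodd : Odd (Fintype.card F)) (hκ : Fintype.card κ = 7) (c : F) (hc : c ≠ 0) :
    Cfsg.Agent.Lib.Helper29.FrStd.CoreProp κ F c :=
  Cfsg.Agent.Lib.Helper5.F7.H17.FrCMain.coreProp hprime hodd hc hκ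

/-- the frame stabiliser is maximal in `Ω(Q)`, `Q` any quadratic form on a 7-dimensional coordinate space over a
prime field of odd order -/
theorem frame_seven_gen {ι : Type} [Fintype ι] [DecidableEq ι] (hodd : Odd (Fintype.card F))
    (hprime : (Fintype.card F).Prime) (hι : Fintype.card ι = 7) (Qf : QuadraticForm F (ι → F))
    {t : ℕ} (D : Fin t → Submodule F (ι → F)) (hD : Cfsg.Geo.IsOrthogonalMDecomposition ⇑Qf 1 D) :
    Cfsg.Geo.IsMaximalIn (Cfsg.Geo.omegaGL ⇑Qf)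
      (Cfsg.Geo.decompositionStabilizer D ⊓ Cfsg.Geo.omegaGL ⇑Qf) := by
  have h2 : (2 : F) ≠ 0 := Cfsg.Agent.Lib.Helper25.Spin.two_ne_zero_of_odd_card hodd
  apply Cfsg.Agent.Lib.Helper5.F11.Fr.frame_of_core_gen5 (by rw [hι]; norm_num) h2 Qf _ D hD
  intro c hc
  exact coreProp7 hprime hodd hι c hc

/-- the frame stabiliser is maximal in `Ω₇(p)` -/
theorem frame_odd7 (hodd : Odd (Fintype.card F)) (hprime : (Fintype.card F).Prime)
    {t : ℕ} (D : Fin t → Submodule F (Unit ⊕ (Fin 3 ⊕ Fin 3) → F))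
    (hD : Cfsg.Geo.IsOrthogonalMDecomposition (Cfsg.quadFormOdd 3 F) 1 D) :
    Cfsg.Geo.IsMaximalIn (Cfsg.Geo.omegaGL (Cfsg.quadFormOdd 3 F))
      (Cfsg.Geo.decompositionStabilizer D ⊓ Cfsg.Geo.omegaGL (Cfsg.quadFormOdd 3 F)) := by
  have h2 : (2 : F) ≠ 0 := Cfsg.Agent.Lib.Helper25.Spin.two_ne_zero_of_odd_card hodd
  obtain ⟨Qf, hQfe⟩ : ∃ Qf : QuadraticForm F (Unit ⊕ (Fin 3 ⊕ Fin 3) → F),
      ⇑Qf = Cfsg.quadFormOdd 3 F :=
    ⟨Cfsg.Agent.Lib.Helper25.Spin.qfOf (Cfsg.Agent.Lib.Helper14.isQF_odd (m := 3) h2), rfl⟩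
  rw [← hQfe] at hD ⊢
  have hcard : Fintype.card (Unit ⊕ (Fin 3 ⊕ Fin 3)) = 7 := by
    simp only [Fintype.card_sum, Fintype.card_unique, Fintype.card_fin]
  exact frame_seven_gen hodd hprime hcard Qf D hD

end Cfsg.Agent.Lib.Helper5.F7.Fr
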